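import Mathlib
import Cfsg.Agent.Lib.Grp.DisconnectedGraph
import Cfsg.Agent.S0205
import Cfsg.Agent.Lib.Transfer.CIT.EPPOFour

/-!
Groups without elements of order `ab`, `a` inside and `b` outside a set of primes `π` with `2 ∈ π`:
the case of a nontrivial `π'`-core and the socle when both cores are trivial.
-/

set_option autoImplicit false
set_option linter.unusedSectionVars false

universe u

namespace Cfsg.Agent.Grp.GK

open Subgroup Cfsg.Agent.Grp.Graph

/-- All prime divisors of the order of the element lie in `π`. -/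
def PiElt {G : Type u} [Group G] (π : Set ℕ) (g : G) : Prop :=
  ∀ r : ℕ, r.Prime → r ∣ orderOf g → r ∈ π

variable {G : Type u} [Group G] [Finite G] {π : Set ℕ}

theorem piElt_of_mem {N : Subgroup G} (hN : PiSub π N) {g : G} (hg : g ∈ N) : PiElt π g :=
  fun r hr hd => hN r hr (hd.trans (orderOf_dvd_natCard N hg))

theorem piElt_of_prime {g : G} {a : ℕ} (ha : a.Prime) {k : ℕ} (hg : orderOf g ∣ a ^ k) (haπ : a ∈ π) :
    PiElt π g :=
  fun _ hr hd => (Nat.prime_dvd_prime_iff_eq hr ha).1 (hr.dvd_of_dvd_pow (hd.trans hg)) ▸ haπ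

theorem piElt_coe {W : Subgroup G} {g : W} : PiElt π (g : G) ↔ PiElt π g := by
  simp only [PiElt, orderOf_coe]

theorem exists_prime_dvd_of_ne_one {g : G} (hg : g ≠ 1) : ∃ a : ℕ, a.Prime ∧ a ∣ orderOf g :=
  Nat.exists_prime_and_dvd fun e => hg (orderOf_eq_one_iff.1 e)

theorem noMix_subgroup (h : NoMix π G) (W : Subgroup G) : NoMix π W :=
  fun a b ha hb haπ hbπ g hg => h a b ha hb haπ hbπ (g : G) (by rwa [orderOf_coe])

theorem false_of_commute (h : NoMix π G) {x y : G} {a b : ℕ} (ha : a.Prime) (hb : b.Prime)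
    (haπ : a ∈ π) (hbπ : b ∉ π) (hx : a ∣ orderOf x) (hy : b ∣ orderOf y) (hc : Commute x y) : False := by
  have h1 := orderOf_pow_orderOf_div (orderOf_pos x).ne' hx
  have h2 := orderOf_pow_orderOf_div (orderOf_pos y).ne' hy
  exact h.not_commute (h1.symm ▸ ha) (h2.symm ▸ hb) (h1.symm ▸ haπ) (h2.symm ▸ hbπ) (hc.pow_pow _ _)

theorem piSub_centralizer (h : NoMix π G) {x : G} {a : ℕ} (ha : a.Prime) (haπ : a ∈ π)
    (hx : a ∣ orderOf x) : PiSub π (centralizer ({x} : Set G)) := by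
  intro r hr hd
  by_contra hrπ
  haveI := Fact.mk hr
  obtain ⟨y, hy⟩ := exists_prime_orderOf_dvd_card' r hd
  exact false_of_commute h ha hr haπ hrπ hx (show r ∣ orderOf (y : G) by rw [orderOf_coe, hy])
    (show Commute x (y : G) from (mem_centralizer_singleton_iff.1 y.2).symm)

theorem piSub_centralizer_compl (h : NoMix π G) {x : G} {a : ℕ} (ha : a.Prime) (haπ : a ∉ π)
    (hx : a ∣ orderOf x) : PiSub πᶜ (centralizer ({x} : Set G)) :=
  piSub_centralizer h.symm ha haπ hx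

/-- Subgroups for complementary sets of primes commute only trivially. -/
theorem false_of_commute_sub (h : NoMix π G) {A B : Subgroup G} (hA : PiSub π A) (hB : PiSub πᶜ B)
    (hA1 : A ≠ ⊥) (hB1 : B ≠ ⊥) (hc : ∀ a ∈ A, ∀ b ∈ B, Commute a b) : False := by
  obtain ⟨x, hx, hx1⟩ := A.bot_or_exists_ne_one.resolve_left hA1
  obtain ⟨y, hy, hy1⟩ := B.bot_or_exists_ne_one.resolve_left hB1
  obtain ⟨a, ha, hxa⟩ := exists_prime_dvd_of_ne_one hx1
  obtain ⟨b, hb, hyb⟩ := exists_prime_dvd_of_ne_one hy1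
  exact false_of_commute h ha hb (piElt_of_mem hA hx a ha hxa) (piElt_of_mem hB hy b hb hyb) hxa hyb
    (hc x hx y hy)

theorem not_two_dvd (h2 : 2 ∈ π) {N : Subgroup G} (hN : PiSub πᶜ N) : ¬ 2 ∣ Nat.card N :=
  fun hd => hN 2 Nat.prime_two hd h2

/-- Square roots in a subgroup of odd order. -/
theorem exists_sqrt (h2 : 2 ∈ π) {N : Subgroup G} (hN : PiSub πᶜ N) {d : G} (hd : d ∈ N) :
    ∃ e ∈ N, e * e = d := by
  obtain ⟨⟨e, he⟩, h⟩ := (powCoprime (G := N)
    (Nat.prime_two.coprime_iff_not_dvd.2 (not_two_dvd h2 hN)).symm).surjective ⟨d, hd⟩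
  refine ⟨e, he, ?_⟩
  have h' := congrArg Subtype.val h
  simpa [powCoprime, sq] using h'

theorem eq_one_of_sq (h2 : 2 ∈ π) {N : Subgroup G} (hN : PiSub πᶜ N) {d : G} (hd : d ∈ N)
    (hdd : d * d = 1) : d = 1 := by
  rcases (Nat.dvd_prime Nat.prime_two).1
    (orderOf_dvd_of_pow_eq_one (show d ^ 2 = 1 by rw [sq, hdd])) with e | e
  · exact orderOf_eq_one_iff.1 e
  · exact absurd (e ▸ orderOf_dvd_natCard N hd) (not_two_dvd h2 hN)

/-- An involution inverts every subgroup of `π'`-order which it normalises. -/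
theorem inverts (h : NoMix π G) (h2 : 2 ∈ π) {t : G} (ht : orderOf t = 2) {N : Subgroup G}
    (hN : PiSub πᶜ N) (htN : ∀ n ∈ N, t * n * t⁻¹ ∈ N) {n : G} (hn : n ∈ N) :
    t * n * t⁻¹ = n⁻¹ := by
  have htt : t * t = 1 := by rw [← sq, ← ht, pow_orderOf_eq_one]
  have hti : t⁻¹ = t := inv_eq_of_mul_eq_one_right htt
  let ψ : N → N := fun u => u⁻¹ * ⟨t * u * t⁻¹, htN u u.2⟩
  have hinj : Function.Injective ψ := by
    intro u w huw
    have e : (u : G)⁻¹ * (t * u * t⁻¹) = (w : G)⁻¹ * (t * w * t⁻¹) := congrArg Subtype.val huw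
    have e3 : t * u * t⁻¹ = (u : G) * ((w : G)⁻¹ * (t * w * t⁻¹)) := by rw [← e]; group
    have e4 : t * ((w : G) * (u : G)⁻¹) * t⁻¹ = (w : G) * (u : G)⁻¹ := by
      calc t * ((w : G) * (u : G)⁻¹) * t⁻¹ = (t * w * t⁻¹) * (t * u * t⁻¹)⁻¹ := by group
        _ = _ := by rw [e3]; group
    by_contra hne
    have hne' : (w : G) * (u : G)⁻¹ ≠ 1 := fun e5 => hne (Subtype.ext (mul_inv_eq_one.1 e5)).symm
    obtain ⟨b, hb, hbd⟩ := exists_prime_dvd_of_ne_one hne'
    exact false_of_commute h Nat.prime_two hb h2 (piElt_of_mem hN (mul_mem w.2 (inv_mem u.2)) b hb hbd)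
      (dvd_of_eq ht.symm) hbd (mul_inv_eq_iff_eq_mul.1 e4)
  obtain ⟨u, hu⟩ := (Finite.injective_iff_surjective.mp hinj) ⟨n, hn⟩
  have e : (u : G)⁻¹ * (t * u * t⁻¹) = n := congrArg Subtype.val hu
  rw [← e, hti]
  simp only [mul_inv_rev, hti, inv_inv, mul_assoc, htt, mul_one]

theorem comm_of_inverts (h : NoMix π G) (h2 : 2 ∈ π) {t : G} (ht : orderOf t = 2) {N : Subgroup G}
    (hN : PiSub πᶜ N) (htN : ∀ n ∈ N, t * n * t⁻¹ ∈ N) {a b : G} (ha : a ∈ N) (hb : b ∈ N) :
    a * b = b * a := by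
  have e := inverts h h2 ht hN htN (mul_mem ha hb)
  rw [show t * (a * b) * t⁻¹ = (t * a * t⁻¹) * (t * b * t⁻¹) by group, inverts h h2 ht hN htN ha,
    inverts h h2 ht hN htN hb, ← mul_inv_rev, inv_inj] at e
  exact e.symm

/-- If `O_π'(G) ≠ 1` and `G` has even order then `G` is a Frobenius group with that kernel. -/
theorem frobenius_of_core (h : NoMix π G) (h2 : 2 ∈ π) (h2G : 2 ∣ Nat.card G)
    (hD1 : Cfsg.piCore πᶜ G ≠ ⊥) :
    ∃ C : Subgroup G, Cfsg.IsFrobeniusComplement C ∧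
      Cfsg.frobeniusKernel C = (Cfsg.piCore πᶜ G : Set G) := by
  obtain ⟨D, hDdef⟩ : ∃ D, D = Cfsg.piCore πᶜ G := ⟨_, rfl⟩
  rw [← hDdef] at hD1 ⊢
  haveI hDn : D.Normal := hDdef ▸ inferInstance
  have hD : PiSub πᶜ D := hDdef ▸ piSub_core
  haveI := Fact.mk Nat.prime_two
  obtain ⟨t, ht⟩ := exists_prime_orderOf_dvd_card' 2 h2G
  have hi : ∀ {s : G}, orderOf s = 2 → ∀ {n : G}, n ∈ D → s * n * s⁻¹ = n⁻¹ := fun {s} hs =>
    inverts h h2 hs hD (fun n hn => hDn.conj_mem n hn s)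
  -- the centralizer of the kernel
  have hCD : centralizer (D : Set G) ≤ D := by
    refine le_of_le_of_eq (piCore_maximal inferInstance fun r hr hd => ?_) hDdef.symm
    intro hrπ
    haveI := Fact.mk hr
    obtain ⟨y, hy⟩ := exists_prime_orderOf_dvd_card' r hd
    obtain ⟨d, hd, hd1⟩ := D.bot_or_exists_ne_one.resolve_left hD1
    obtain ⟨b, hb, hbd⟩ := exists_prime_dvd_of_ne_one hd1
    exact false_of_commute h hr hb hrπ (piElt_of_mem hD hd b hb hbd)
      (show r ∣ orderOf (y : G) by rw [orderOf_coe, hy]) hbd (mem_centralizer_iff.1 y.2 d hd).symm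
  have hgen : ∀ g : G, ∃ d ∈ D, ∃ c ∈ centralizer ({t} : Set G), g = d * c := by
    intro g
    have hs : orderOf (g * t * g⁻¹) = 2 := by rw [← ht]; exact MulEquiv.orderOf_eq (MulAut.conj g) t
    have hmem : g * t * g⁻¹ * t⁻¹ ∈ D := by
      refine hCD (mem_centralizer_iff.2 fun n hn => ?_)
      refine (mul_inv_eq_iff_eq_mul.1 ?_).symm
      calc g * t * g⁻¹ * t⁻¹ * n * (g * t * g⁻¹ * t⁻¹)⁻¹
          = (g * t * g⁻¹) * (t⁻¹ * n * t) * (g * t * g⁻¹)⁻¹ := by group
        _ = (g * t * g⁻¹) * n⁻¹ * (g * t * g⁻¹)⁻¹ := by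
          have := hi ht (n := n⁻¹) (inv_mem hn)
          rw [inv_inv] at this
          conv_lhs => rw [← this]
          group
        _ = n := by rw [hi hs (inv_mem hn), inv_inv]
    obtain ⟨d, hd, hdd⟩ := exists_sqrt h2 hD hmem
    refine ⟨d, hd, d⁻¹ * g, mem_centralizer_singleton_iff.2 ?_, by group⟩
    have e2 : d⁻¹ * (g * t * g⁻¹) * d = t := by
      have e1 : g * t * g⁻¹ = d * d * t := by rw [hdd]; group
      rw [e1]
      calc d⁻¹ * (d * d * t) * d = d * (t * d * t⁻¹) * t := by group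
        _ = t := by rw [hi ht hd]; group
    calc d⁻¹ * g * t = d⁻¹ * (g * t * g⁻¹) * d * (d⁻¹ * g) := by group
      _ = t * (d⁻¹ * g) := by rw [e2]
  have hCπ : PiSub π (centralizer ({t} : Set G)) :=
    piSub_centralizer h Nat.prime_two h2 (dvd_of_eq ht.symm)
  have hc : Subgroup.IsComplement' D (centralizer ({t} : Set G)) := by
    refine Subgroup.isComplement'_of_disjoint_and_mul_eq_univ ?_ ?_
    · rw [disjoint_iff, eq_bot_iff_forall]
      rintro x ⟨hxD, hxC⟩
      by_contra hx1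
      obtain ⟨b, hb, hbd⟩ := exists_prime_dvd_of_ne_one hx1
      exact piElt_of_mem hD hxD b hb hbd (piElt_of_mem hCπ hxC b hb hbd)
    · refine Set.eq_univ_of_forall fun g => ?_
      obtain ⟨d, hd, c, hc, e⟩ := hgen g
      exact ⟨d, hd, c, hc, e.symm⟩
  exact ⟨_, Graph.frobenius h.symm hD (by rwa [compl_compl]) hD1 (fun e => by
    have htC : t ∈ centralizer ({t} : Set G) := mem_centralizer_singleton_iff.2 rfl
    rw [e, mem_bot] at htC
    rw [htC, orderOf_one] at ht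
    omega) hc⟩

/-- A `π`-subgroup normalised by an element of prime order outside `π` is nilpotent. -/
theorem nilpotent_of_fpf (h : NoMix π G) {N : Subgroup G} (hN : PiSub π N) {b : ℕ} (hb : b.Prime)
    (hbπ : b ∉ π) {y : G} (hy : orderOf y = b) (hyN : y ∈ normalizer (N : Set G)) :
    Group.IsNilpotent N := by
  haveI := Fact.mk hb
  refine isNilpotent_of_fpf (p := b) (hy ▸ pow_orderOf_eq_one y) hyN
    (fpf h hN (H := zpowers y) ?_ (mem_zpowers y) fun e => hb.one_lt.ne (by rw [← hy, e, orderOf_one]))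
  intro r hr hd
  rw [Nat.card_zpowers, hy, Nat.prime_dvd_prime_iff_eq hr hb] at hd
  exact hd ▸ hbπ

theorem not_solvable_of_simple {M : Type u} [Group M] [IsSimpleGroup M] (hna : ¬ IsMulCommutative M) :
    ¬ Group.IsSolvable M := fun _ => hna ⟨⟨IsSimpleGroup.comm_iff_isSolvable.2 inferInstance⟩⟩

theorem eq_bot_of_solvable (hπ : Cfsg.piCore π G = ⊥) (hπc : Cfsg.piCore πᶜ G = ⊥) {N : Subgroup G}
    (hNn : N.Normal) (hs : Group.IsSolvable N) : N = ⊥ := by
  haveI := hNn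
  by_contra hN
  obtain ⟨A, hAn, hA, hAN, hmin⟩ := exists_minimal_normal_le hN
  haveI := hAn
  obtain ⟨p, hp, hpA⟩ := minimal_normal_solvable_isPGroup (isSolvable_of_le hAN hs) hA hmin
  by_cases hpπ : p ∈ π
  · exact hA (le_bot_iff.1 (hπ ▸ piCore_maximal hAn (piSub_of_pGroup hp hpA hpπ)))
  · exact hA (le_bot_iff.1 (hπc ▸ piCore_maximal hAn (piSub_of_pGroup hp hpA (π := πᶜ) hpπ)))

theorem exists_invol {N : Subgroup G} (hN : ¬ Group.IsSolvable N) : ∃ t ∈ N, orderOf t = 2 := by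
  haveI := Fact.mk Nat.prime_two
  by_cases h2 : 2 ∣ Nat.card N
  · obtain ⟨t, ht⟩ := exists_prime_orderOf_dvd_card' 2 h2
    exact ⟨t, t.2, by rw [orderOf_coe, ht]⟩
  · exact absurd (Cfsg.Agent.S0205.result (Nat.odd_iff.2 (Nat.two_dvd_ne_zero.1 h2))) hN

/-- Without cores the group has a simple normal subgroup with trivial centralizer. -/
theorem exists_socle [Nontrivial G] (h : NoMix π G) (h2 : 2 ∈ π) (hπ : Cfsg.piCore π G = ⊥)
    (hπc : Cfsg.piCore πᶜ G = ⊥) :
    ∃ M : Subgroup G, M.Normal ∧ IsSimpleGroup M ∧ ¬ IsMulCommutative M ∧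
      centralizer (M : Set G) = ⊥ := by
  have hrad := fun {N : Subgroup G} => eq_bot_of_solvable (N := N) hπ hπc
  obtain ⟨M, hMn, hM, -, hmin⟩ := exists_minimal_normal_le (N := (⊤ : Subgroup G)) top_ne_bot
  haveI := hMn
  have hMns : ¬ Group.IsSolvable M := fun hs => hM (hrad hMn hs)
  obtain ⟨b, hb, hbπ, hbM⟩ : ∃ b : ℕ, b.Prime ∧ b ∉ π ∧ b ∣ Nat.card M := by
    by_contra hc
    exact hM (le_bot_iff.1 (hπ ▸ piCore_maximal hMn fun r hr hd =>
      by_contra fun hrπ => hc ⟨r, hr, hrπ, hd⟩))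
  haveI := Fact.mk hb
  obtain ⟨y, hy⟩ := exists_prime_orderOf_dvd_card' b hbM
  have hyo : orderOf (y : G) = b := by rw [orderOf_coe, hy]
  have hsimple : IsSimpleGroup M := by
    haveI : Nontrivial M := (Subgroup.nontrivial_iff_ne_bot M).mpr hM
    refine ⟨fun K hK => ?_⟩
    by_contra hKc
    push Not at hKc
    obtain ⟨K0, hK0n, hK0ne, hK0K, hK0min⟩ := exists_minimal_normal_le (N := K) hKc.1
    haveI := hK0n
    obtain ⟨A, hA⟩ : ∃ A, A = K0.map M.subtype := ⟨_, rfl⟩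
    have hAM : A ≤ M := hA ▸ Subgroup.map_subtype_le _
    have hMA : ∀ m ∈ M, ∀ a ∈ A, m * a * m⁻¹ ∈ A := by
      subst hA
      rintro m hm _ ⟨a, ha, rfl⟩
      exact ⟨_, hK0n.conj_mem a ha ⟨m, hm⟩, rfl⟩
    have hAns : ¬ Group.IsSolvable A := by
      intro hs
      subst hA
      obtain ⟨R, hRn, hRs, hRmax⟩ := Transfer.CIT.exists_radical M
      haveI := hRn
      haveI : (R.map M.subtype).Normal := by
        refine ⟨?_⟩
        rintro _ ⟨x, hx, rfl⟩ g
        let f : M ≃* M := MulAut.conjNormal g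
        haveI : (R.map f.toMonoidHom).Normal := Subgroup.Normal.map inferInstance _ f.surjective
        refine ⟨f x, hRmax (R.map f.toMonoidHom) inferInstance (isSolvable_map hRs _) ⟨x, hx, rfl⟩, ?_⟩
        simp [f]
      have e := hrad (N := R.map M.subtype) inferInstance (isSolvable_map hRs _)
      rw [Subgroup.map_eq_bot_iff_of_injective _ M.subtype_injective] at e
      have hK0s : Group.IsSolvable K0 :=
        Group.isSolvable_of_isSolvable_injective
          (f := (K0.equivMapOfInjective M.subtype M.subtype_injective).toMonoidHom)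
          (MulEquiv.injective _)
      exact hK0ne (le_bot_iff.1 (e ▸ hRmax K0 hK0n hK0s))
    obtain ⟨g, hg⟩ : ∃ g : G, ∃ a ∈ A, g * a * g⁻¹ ∉ A := by
      by_contra hc
      push Not at hc
      rcases hmin A ⟨fun a ha g => hc g a ha⟩ hAM with e | e
      · exact hAns (e ▸ inferInstance)
      · refine hKc.2 (eq_top_iff.2 fun x _ => hK0K ?_)
        obtain ⟨z, hz, hzx⟩ : (x : G) ∈ K0.map M.subtype := by rw [← hA, e]; exact x.2
        exact Subtype.ext hzx ▸ hz
    obtain ⟨B, hB⟩ : ∃ B, B = A.map (MulAut.conj g).toMonoidHom := ⟨_, rfl⟩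
    have hBM : B ≤ M := by
      subst hB
      rintro _ ⟨v, hv, rfl⟩
      exact hMn.conj_mem v (hAM hv) g
    have hMB : ∀ m ∈ M, ∀ v ∈ B, m * v * m⁻¹ ∈ B := by
      subst hB
      rintro m hm _ ⟨v, hv, rfl⟩
      refine ⟨(g⁻¹ * m * g) * v * (g⁻¹ * m * g)⁻¹, hMA _ (hMn.conj_mem' m hm g) v hv, ?_⟩
      simp only [MulEquiv.coe_toMonoidHom, MulAut.conj_apply]
      group
    have hinf : ∀ x ∈ A, x ∈ B → x = 1 := by
      let I : Subgroup M := (A ⊓ B).subgroupOf M
      haveI : I.Normal := ⟨fun x hx m => ⟨hMA m m.2 _ hx.1, hMB m m.2 _ hx.2⟩⟩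
      have hIK : I ≤ K0 := by
        intro x hx
        obtain ⟨z, hz, hzx⟩ := (show (x : G) ∈ K0.map M.subtype from hA ▸ (mem_subgroupOf.1 hx).1)
        exact Subtype.ext hzx ▸ hz
      rcases hK0min I inferInstance hIK with e | e
      · intro x hx hx'
        have : (⟨x, hAM hx⟩ : M) ∈ I := ⟨hx, hx'⟩
        rw [e, mem_bot] at this
        exact congrArg Subtype.val this
      · exfalso
        obtain ⟨a, ha, hga⟩ := hg
        have hle : A ≤ B := by
          intro z hz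
          obtain ⟨w, hw, rfl⟩ := (hA ▸ hz : z ∈ K0.map M.subtype)
          exact (e.symm ▸ hw : w ∈ I).2
        have heq : A = B := Subgroup.eq_of_le_of_card_ge hle (by
          rw [hB, Subgroup.card_map_of_injective (MulAut.conj g).injective])
        exact hga (heq.symm ▸ hB.symm ▸ ⟨a, ha, rfl⟩)
    have hcomm : ∀ a ∈ A, ∀ v ∈ B, Commute a v := fun a ha v hv => by
      have h1 : a * v * a⁻¹ * v⁻¹ = 1 := hinf _
        (by rw [show a * v * a⁻¹ * v⁻¹ = a * (v * a⁻¹ * v⁻¹) by group]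
            exact mul_mem ha (hMA v (hBM hv) _ (inv_mem ha)))
        (mul_mem (hMB a (hAM ha) v hv) (inv_mem hv))
      exact mul_inv_eq_iff_eq_mul.1 (mul_inv_eq_one.1 h1)
    -- so `A` is a `π`-group with a fixed-point-free operator
    obtain ⟨s, hs, hso⟩ := exists_invol hAns
    have hsB : g * s * g⁻¹ ∈ B := hB ▸ ⟨s, hs, rfl⟩
    have hAπ : PiSub π A := by
      intro r hr hd
      by_contra hrπ
      haveI := Fact.mk hr
      obtain ⟨a, ha⟩ := exists_prime_orderOf_dvd_card' r hd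
      exact false_of_commute h Nat.prime_two hr h2 hrπ
        (dvd_of_eq (hso.symm.trans (MulEquiv.orderOf_eq (MulAut.conj g) s).symm))
        (show r ∣ orderOf (a : G) by rw [orderOf_coe, ha]) (hcomm a a.2 _ hsB).symm
    haveI := nilpotent_of_fpf h hAπ hb hbπ hyo
      (mem_normalizer_iff.2 fun z => ⟨fun hz => hMA _ y.2 z hz, fun hz => by
        have := hMA _ (inv_mem y.2) _ hz
        simpa [mul_assoc] using this⟩)
    exact hAns inferInstance
  refine ⟨M, hMn, hsimple, fun hc => hMns (Group.isSolvable_of_comm fun a c => hc.is_comm.comm a c), ?_⟩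
  by_contra hC
  have hCns : ¬ Group.IsSolvable (centralizer (M : Set G)) := fun hs => hC (hrad inferInstance hs)
  obtain ⟨s, hs, hso⟩ := exists_invol hCns
  exact false_of_commute h Nat.prime_two hb h2 hbπ (dvd_of_eq hso.symm) (dvd_of_eq hyo.symm)
    (mem_centralizer_iff.1 hs _ y.2).symm

end Cfsg.Agent.Grp.GK
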