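import Mathlib
import Cfsg.Agent.Lib.Grp.PrimeGraphGK.Basic
import Cfsg.Agent.S0058

/-!
The normalizer of a `π`-subgroup in a group with a normal subgroup of prime index `p ∉ π`.
-/

set_option autoImplicit false
set_option linter.unusedSectionVars false

universe u

namespace Cfsg.Agent.Grp.GK

open Subgroup Cfsg.Agent.Grp.Graph

/-- Below order `n` no almost simple group has its socle of prime index outside `π`. -/
def NoOuter (π : Set ℕ) (n : ℕ) : Prop :=
  ∀ (X : Type u) [Group X] [Finite X], Nat.card X < n → NoMix π X → ∀ (M : Subgroup X), M.Normal →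
    IsSimpleGroup M → ¬ IsMulCommutative M → centralizer (M : Set X) = ⊥ →
      ∀ p : ℕ, p.Prime → p ∉ π → M.index ≠ p

variable {G : Type u} [Group G] [Finite G] {π : Set ℕ}

theorem mem_of_piElt {M : Subgroup G} [M.Normal] {p : ℕ} (hp : p.Prime) (hpπ : p ∉ π)
    (hidx : M.index = p) {g : G} (hg : PiElt π g) : g ∈ M := by
  by_contra hgM
  have h1 : orderOf (g : G ⧸ M) = p := by
    refine ((Nat.dvd_prime hp).1 ?_).resolve_left fun e =>
      hgM ((QuotientGroup.eq_one_iff g).1 (orderOf_eq_one_iff.1 e))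
    rw [← hidx, Subgroup.index_eq_card]
    exact orderOf_dvd_natCard _
  exact hpπ (hg p hp (h1 ▸ orderOf_map_dvd (QuotientGroup.mk' M) g))

/-- The socle has `π`-index. -/
theorem index_pi {n : ℕ} (hno : NoOuter.{u} π n) (hlt : Nat.card G < n) (h : NoMix π G)
    (M : Subgroup G) [hMn : M.Normal] (hs : IsSimpleGroup M) (hna : ¬ IsMulCommutative M)
    (hC : centralizer (M : Set G) = ⊥) {r : ℕ} (hr : r.Prime) (hrd : r ∣ M.index) : r ∈ π := by
  by_contra hrπ
  haveI := Fact.mk hr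
  rw [Subgroup.index_eq_card] at hrd
  obtain ⟨y, hy⟩ := exists_prime_orderOf_dvd_card' (G := G ⧸ M) r hrd
  obtain ⟨X, hX⟩ : ∃ X, X = (zpowers y).comap (QuotientGroup.mk' M) := ⟨_, rfl⟩
  have hMX : M ≤ X := fun m hm => hX ▸ (by
    show QuotientGroup.mk' M m ∈ zpowers y
    rw [show QuotientGroup.mk' M m = 1 from (QuotientGroup.eq_one_iff m).2 hm]
    exact one_mem _)
  haveI : Nontrivial ↥(M.subgroupOf X) := (subgroupOfEquivOfLe hMX).toEquiv.nontrivial
  refine hno ↥X (lt_of_le_of_lt (Subgroup.card_le_card_group X) hlt) (noMix_subgroup h X)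
    (M.subgroupOf X) inferInstance (IsSimpleGroup.isSimpleGroup_of_surjective (subgroupOfEquivOfLe hMX).symm.toMonoidHom
      (MulEquiv.surjective _)) (fun hc => hna ⟨⟨fun a b => ?_⟩⟩) ?_ r hr hrπ ?_
  · obtain ⟨a', rfl⟩ := (subgroupOfEquivOfLe hMX).surjective a
    obtain ⟨b', rfl⟩ := (subgroupOfEquivOfLe hMX).surjective b
    rw [← map_mul, ← map_mul, hc.is_comm.comm a' b']
  · rw [eq_bot_iff_forall]
    intro z hz
    refine Subtype.ext ?_
    have hz' : (z : G) ∈ centralizer (M : Set G) := mem_centralizer_iff.2 fun m hm =>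
      congrArg Subtype.val (mem_centralizer_iff.1 hz ⟨m, hMX hm⟩ hm)
    rw [hC, mem_bot] at hz'
    exact hz'
  · show M.relIndex X = r
    rw [show M.relIndex X = (QuotientGroup.mk' M).ker.relIndex X by rw [QuotientGroup.ker_mk'],
      Subgroup.relIndex_ker, hX, Subgroup.map_comap_eq_self_of_surjective (QuotientGroup.mk'_surjective M),
      Nat.card_zpowers, hy]

/-- A cyclic image of an abelian subgroup acting fixed-point-freely on a nontrivial `π`-group. -/
theorem isCyclic_of_fpf (h : NoMix π G) {Q R : Subgroup G} (hQ : PiSub π Q) (hQ1 : Q ≠ ⊥)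
    (hR : PiSub πᶜ R) (hRQ : R ≤ normalizer (Q : Set G)) [IsMulCommutative R] : IsCyclic R := by
  by_contra hc
  refine hQ1 ?_
  rw [← Cfsg.Agent.S0058.result R Q hc hRQ (coprime_of_piSub hQ hR).symm, iSup_eq_bot]
  intro a
  rw [iSup_eq_bot]
  exact fun ha => fpf h hQ hR ha.1 ha.2

theorem card_comap_mk (N : Subgroup G) [N.Normal] (T : Subgroup (G ⧸ N)) :
    Nat.card (T.comap (QuotientGroup.mk' N)) = Nat.card N * Nat.card T := by
  have hle : N ≤ T.comap (QuotientGroup.mk' N) := fun n hn => by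
    show QuotientGroup.mk' N n ∈ T
    rw [show QuotientGroup.mk' N n = 1 from (QuotientGroup.eq_one_iff n).mpr hn]
    exact one_mem T
  rw [← card_mul_relIndex hle,
    show N.relIndex (T.comap (QuotientGroup.mk' N)) =
      (QuotientGroup.mk' N).ker.relIndex (T.comap (QuotientGroup.mk' N)) by rw [QuotientGroup.ker_mk'],
    Subgroup.relIndex_ker, Subgroup.map_comap_eq_self_of_surjective (QuotientGroup.mk'_surjective N)]

/-- A nontrivial normal subgroup of the quotient by `O_π` involving no prime of `π` contains a cyclic one. -/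
theorem isCyclic_quot (h : NoMix π G) {Q : Subgroup G} [Q.Normal] (hQ : PiSub π Q) (hQ1 : Q ≠ ⊥)
    {V : Subgroup (G ⧸ Q)} (hV : PiSub πᶜ V) {s : ℕ} (hs : s.Prime) (hVs : IsPGroup s V)
    (hVc : IsMulCommutative V) : IsCyclic V := by
  haveI := Fact.mk hs
  obtain ⟨k, hk⟩ := hVs.exists_card_eq
  by_cases hV1 : V = ⊥
  · subst hV1; infer_instance
  have hsπ : s ∉ π := hV s hs (by
    rw [hk]
    refine dvd_pow_self s fun e => hV1 (Subgroup.card_eq_one.1 ?_)
    rw [hk, e, pow_zero])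
  obtain ⟨R, hR⟩ := exists_isSylowIn s (V.comap (QuotientGroup.mk' Q))
  have hcard : Nat.card R = s ^ k := by
    rw [hR.card, card_comap_mk, hk, Nat.factorization_mul Nat.card_pos.ne' (pow_ne_zero _ hs.ne_zero)]
    simp [Nat.factorization_eq_zero_of_not_dvd fun hd => hsπ (hQ s hs hd), hs.factorization_self]
  have hRc : PiSub πᶜ R := piSub_of_pGroup hs hR.2.1 hsπ
  obtain ⟨f, hf⟩ : ∃ f : R →* V, ∀ x : R, (f x : G ⧸ Q) = QuotientGroup.mk' Q x :=
    ⟨((QuotientGroup.mk' Q).comp R.subtype).codRestrict V fun x => hR.1 x.2, fun _ => rfl⟩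
  have hinj : Function.Injective f := (injective_iff_map_eq_one f).2 fun x hx => by
    refine Subtype.ext ?_
    have hxQ : (x : G) ∈ Q := (QuotientGroup.eq_one_iff (x : G)).1 ((hf x).symm.trans (congrArg Subtype.val hx))
    by_contra hx1
    obtain ⟨b, hb, hbd⟩ := exists_prime_dvd_of_ne_one hx1
    exact piElt_of_mem hRc x.2 b hb hbd (piElt_of_mem hQ hxQ b hb hbd)
  haveI : IsMulCommutative R := ⟨⟨fun a b => hinj (by rw [map_mul, map_mul, hVc.is_comm.comm])⟩⟩
  haveI := isCyclic_of_fpf h hQ hQ1 hRc (Subgroup.le_normalizer_of_normal)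
  exact isCyclic_of_surjective f ((Nat.bijective_iff_injective_and_card f).2 ⟨hinj, hcard.trans hk.symm⟩).2

/-- Modulo `O_π` no element of prime order in `π` remains. -/
theorem local_step {n : ℕ} (hno : NoOuter.{u} π n) (hlt : Nat.card G ≤ n) (h : NoMix π G) (h2 : 2 ∈ π)
    {L : Subgroup G} [hLn : L.Normal] {p : ℕ} (hp : p.Prime) (hpπ : p ∉ π) (hidx : L.index = p)
    (hQ1 : Cfsg.piCore π G ≠ ⊥) :
    Group.IsNilpotent (Cfsg.piCore π G) ∧ ∀ g : G, PiElt π g → g ∈ Cfsg.piCore π G := by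
  classical
  haveI := Fact.mk hp
  obtain ⟨Q, hQd⟩ : ∃ Q, Q = Cfsg.piCore π G := ⟨_, rfl⟩
  rw [← hQd] at hQ1 ⊢
  haveI hQn : Q.Normal := hQd ▸ inferInstance
  have hQ : PiSub π Q := hQd ▸ piSub_core
  have hQL : Q ≤ L := fun g hg => mem_of_piElt hp hpπ hidx (piElt_of_mem hQ hg)
  obtain ⟨y, hy⟩ : ∃ y : G, orderOf y = p :=
    exists_prime_orderOf_dvd_card' p (hidx ▸ L.index_dvd_card)
  refine ⟨nilpotent_of_fpf h hQ hp hpπ hy (by rw [Subgroup.normalizer_eq_top]; exact mem_top y), ?_⟩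
  set φ := QuotientGroup.mk' Q with hφ
  have hφs : Function.Surjective φ := QuotientGroup.mk'_surjective Q
  have hY : NoMix π (G ⧸ Q) := h.quot Q
  haveI : (L.map φ).Normal := hLn.map φ hφs
  have hidx' : (L.map φ).index = p := by
    rw [Subgroup.index_map_eq _ hφs (by rw [QuotientGroup.ker_mk']; exact hQL), hidx]
  have hcoreπ : Cfsg.piCore π (G ⧸ Q) = ⊥ := by
    have h1 : (Cfsg.piCore π (G ⧸ Q)).comap φ ≤ Q := by
      have h0 := piCore_maximal (G := G) (inferInstance : ((Cfsg.piCore π (G ⧸ Q)).comap φ).Normal)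
        (piSub_comap hQ piSub_core)
      rwa [← hQd] at h0
    rw [← Subgroup.map_comap_eq_self_of_surjective hφs (Cfsg.piCore π (G ⧸ Q)),
      Subgroup.map_eq_bot_iff, QuotientGroup.ker_mk']
    exact h1
  suffices hΔ : ∀ r : ℕ, r.Prime → r ∣ Nat.card (G ⧸ Q) → r ∉ π by
    intro g hg
    rw [← QuotientGroup.eq_one_iff]
    by_contra hg1
    obtain ⟨r, hr, hrd⟩ := exists_prime_dvd_of_ne_one hg1
    exact hΔ r hr (hrd.trans (orderOf_dvd_natCard _)) (hg r hr (hrd.trans (orderOf_map_dvd φ g)))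
  intro r hr hrd hrπ
  haveI := Fact.mk hr
  obtain ⟨c, hc⟩ := exists_prime_orderOf_dvd_card' (G := G ⧸ Q) r hrd
  have hcπ : PiElt π c := piElt_of_prime hr (k := 1) (by rw [hc, pow_one]) hrπ
  by_cases hK1 : Cfsg.piCore πᶜ (G ⧸ Q) = ⊥
  · -- the socle lies in the image of `L`
    haveI : Nontrivial (G ⧸ Q) := ⟨⟨c, 1, fun e => hr.one_lt.ne (by rw [← hc, e, orderOf_one])⟩⟩
    obtain ⟨M, hMn, hMs, hMna, hMC⟩ := exists_socle hY h2 hcoreπ hK1
    haveI := hMn
    have hML : M ≤ L.map φ := by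
      haveI := hMs
      rcases IsSimpleGroup.eq_bot_or_eq_top_of_normal ((L.map φ).subgroupOf M) inferInstance with e | e
      · exfalso
        refine hMna ⟨⟨fun a b => ?_⟩⟩
        have hcy : IsCyclic ((G ⧸ Q) ⧸ L.map φ) := isCyclic_of_prime_card (p := p) (by
          rw [← Subgroup.index_eq_card, hidx'])
        have hmem : a⁻¹ * b⁻¹ * (a * b) ∈ (L.map φ).subgroupOf M := by
          rw [mem_subgroupOf]
          refine (QuotientGroup.eq_one_iff _).1 ?_
          simp only [Subgroup.coe_mul, Subgroup.coe_inv, QuotientGroup.mk_mul, QuotientGroup.mk_inv]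
          letI := hcy.commGroup
          rw [mul_comm (((a : M) : G ⧸ Q) : (G ⧸ Q) ⧸ L.map φ) _, mul_assoc, inv_mul_cancel_left,
            inv_mul_cancel]
        rw [e, mem_bot] at hmem
        calc a * b = b * a * (a⁻¹ * b⁻¹ * (a * b)) := by group
          _ = b * a := by rw [hmem, mul_one]
      · intro m hm
        have : (⟨m, hm⟩ : M) ∈ (L.map φ).subgroupOf M := e ▸ mem_top _
        exact this
    refine hpπ (index_pi hno ?_ hY M hMs hMna hMC hp (hidx' ▸ Subgroup.index_dvd_of_le hML))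
    exact lt_of_lt_of_le (card_quotient_lt hQ1) hlt
  · obtain ⟨K, hKd⟩ : ∃ K, K = Cfsg.piCore πᶜ (G ⧸ Q) := ⟨_, rfl⟩
    rw [← hKd] at hK1
    haveI hKn : K.Normal := hKd ▸ inferInstance
    have hK : PiSub πᶜ K := hKd ▸ piSub_core
    have hKmax : ∀ {T : Subgroup (G ⧸ Q)}, T.Normal → PiSub πᶜ T → T ≤ K := fun hT hTπ =>
      hKd ▸ piCore_maximal hT hTπ
    haveI := nilpotent_of_fpf hY.symm hK hr (fun hh => hh hrπ) hc
      (by rw [Subgroup.normalizer_eq_top]; exact mem_top c)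
    obtain ⟨V, hVn, hV1, hVK, hVmin⟩ := exists_minimal_normal_le hK1
    haveI := hVn
    have hVs : Group.IsSolvable V := isSolvable_of_le hVK inferInstance
    obtain ⟨s, hs, hsV⟩ := minimal_normal_solvable_isPGroup hVs hV1 hVmin
    have hVπ : PiSub πᶜ V := fun q hq hd => hK q hq (hd.trans (Subgroup.card_dvd_of_le hVK))
    haveI := isCyclic_quot h hQ hQ1 hVπ hs hsV (minimal_normal_solvable hVs hV1 hVmin).1
    let ψ := MulAut.conjNormal (H := V)
    have hker : ψ.ker ≤ K := by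
      refine hKmax inferInstance fun q hq hd hqπ => ?_
      haveI := Fact.mk hq
      obtain ⟨z, hz⟩ := exists_prime_orderOf_dvd_card' (G := ψ.ker) q hd
      obtain ⟨v, hv, hv1⟩ := V.bot_or_exists_ne_one.resolve_left hV1
      obtain ⟨b, hb, hbd⟩ := exists_prime_dvd_of_ne_one hv1
      have hfix := congrArg Subtype.val (DFunLike.congr_fun (show ψ (z : G ⧸ Q) = 1 from z.2) ⟨v, hv⟩)
      exact false_of_commute hY hq hb hqπ (piElt_of_mem hVπ hv b hb hbd)
        (show q ∣ orderOf (z : G ⧸ Q) by rw [orderOf_coe, hz]) hbd (mul_inv_eq_iff_eq_mul.1 hfix)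
    have hA : ∀ f g : MulAut V, f * g = g * f := fun f g => MulEquiv.ext fun w => by
      obtain ⟨⟨e, he⟩, hgen⟩ := IsCyclic.exists_generator (α := V)
      obtain ⟨i, hi⟩ := hgen (f ⟨e, he⟩)
      obtain ⟨j, hj⟩ := hgen (g ⟨e, he⟩)
      obtain ⟨l, rfl⟩ := hgen w
      simp only [MulAut.mul_apply, map_zpow]
      rw [← hi, ← hj]
      simp only [map_zpow, ← hi, ← hj, ← zpow_mul]
      congr 1
      ring
    have hcomm : ∀ a b : (G ⧸ Q) ⧸ K, a * b = b * a := by
      intro a b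
      obtain ⟨a, rfl⟩ := QuotientGroup.mk_surjective a
      obtain ⟨b, rfl⟩ := QuotientGroup.mk_surjective b
      rw [← QuotientGroup.mk_mul, ← QuotientGroup.mk_mul, QuotientGroup.eq]
      refine hker (MonoidHom.mem_ker.mpr ?_)
      rw [map_mul, map_inv, map_mul, map_mul, hA (ψ b) (ψ a), inv_mul_cancel]
    -- `K` consists of commutators with `c`
    have hcL : c ∈ L.map φ := mem_of_piElt hp hpπ hidx' hcπ
    have hKL : K ≤ L.map φ := by
      let θ : K → K := fun k => k⁻¹ * ⟨c * k * c⁻¹, hKn.conj_mem k k.2 c⟩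
      have hθ : Function.Injective θ := by
        intro u w huw
        have e : (u : G ⧸ Q)⁻¹ * (c * u * c⁻¹) = (w : G ⧸ Q)⁻¹ * (c * w * c⁻¹) := congrArg Subtype.val huw
        have e3 : c * u * c⁻¹ = (u : G ⧸ Q) * ((w : G ⧸ Q)⁻¹ * (c * w * c⁻¹)) := by rw [← e]; group
        have e4 : c * ((w : G ⧸ Q) * (u : G ⧸ Q)⁻¹) * c⁻¹ = (w : G ⧸ Q) * (u : G ⧸ Q)⁻¹ := by
          calc c * ((w : G ⧸ Q) * (u : G ⧸ Q)⁻¹) * c⁻¹ = (c * w * c⁻¹) * (c * u * c⁻¹)⁻¹ := by group
            _ = _ := by rw [e3]; group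
        by_contra hne
        have hne' : (w : G ⧸ Q) * (u : G ⧸ Q)⁻¹ ≠ 1 :=
          fun e5 => hne (Subtype.ext (mul_inv_eq_one.1 e5)).symm
        obtain ⟨b, hb, hbd⟩ := exists_prime_dvd_of_ne_one hne'
        exact false_of_commute hY hr hb hrπ (piElt_of_mem hK (mul_mem w.2 (inv_mem u.2)) b hb hbd)
          (dvd_of_eq hc.symm) hbd (mul_inv_eq_iff_eq_mul.1 e4)
      intro k hk
      obtain ⟨u, hu⟩ := (Finite.injective_iff_surjective.mp hθ) ⟨k, hk⟩
      have e : (u : G ⧸ Q)⁻¹ * (c * u * c⁻¹) = k := congrArg Subtype.val hu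
      rw [← e, ← mul_assoc, ← mul_assoc]
      have h1 : (u : G ⧸ Q)⁻¹ * c * u ∈ L.map φ := by
        have := (‹(L.map φ).Normal›).conj_mem c hcL (u : G ⧸ Q)⁻¹
        rwa [inv_inv] at this
      exact mul_mem h1 (inv_mem hcL)
    have hpK : p ∣ K.index := hidx' ▸ Subgroup.index_dvd_of_le hKL
    rw [Subgroup.index_eq_card] at hpK
    obtain ⟨z, hz⟩ := exists_prime_orderOf_dvd_card' (G := (G ⧸ Q) ⧸ K) p hpK
    have hzn : (zpowers z).Normal := ⟨fun u hu g => by rw [hcomm g u, mul_inv_cancel_right]; exact hu⟩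
    have hle := hKmax (hzn.comap (QuotientGroup.mk' K)) (piSub_comap hK (π := πᶜ) fun q hq hd => by
      rw [Nat.card_zpowers, hz, Nat.prime_dvd_prime_iff_eq hq hp] at hd
      exact hd ▸ hpπ)
    obtain ⟨z0, rfl⟩ := QuotientGroup.mk_surjective z
    have hz0 : z0 ∈ K := hle (mem_zpowers _)
    rw [(QuotientGroup.eq_one_iff z0).2 hz0, orderOf_one] at hz
    exact hp.one_lt.ne hz

end Cfsg.Agent.Grp.GK
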