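import Mathlib
import Cfsg.Agent.Lib.Grp.PrimeGraphGK.Local
import Cfsg.Agent.Lib.Grp.Real
import Cfsg.Agent.S5278
import Cfsg.Agent.Lib.Fus.GroupSystem
import Cfsg.Agent.Lib.Grp.HomogeneousDPi

/-!
An almost simple group has no socle of prime index outside `π`: the centre of a Sylow subgroup for an odd
prime of `π` is weakly closed, so no such element is real, and a real element outside `π` gives an
involution commuting with an element outside the socle.
-/

set_option autoImplicit false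
set_option linter.unusedSectionVars false

universe u

namespace Cfsg.Agent.Grp.GK

open Subgroup Cfsg.Agent.Grp.Graph Cfsg.FusionSystem
open scoped Pointwise

variable {G : Type u} [Group G] [Finite G] {π : Set ℕ}

/-- The normalizer of a `π`-subgroup not inside `M` has a nilpotent part containing all its `π`-elements. -/
theorem loc {n : ℕ} (hno : NoOuter.{u} π n) (hlt : Nat.card G ≤ n) (h : NoMix π G) (h2 : 2 ∈ π)
    {M : Subgroup G} [M.Normal] {p : ℕ} (hp : p.Prime) (hpπ : p ∉ π) (hidx : M.index = p)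
    {C0 : Subgroup G} (hC0 : PiSub π C0) (hC1 : C0 ≠ ⊥) {x : G}
    (hx : x ∈ normalizer (C0 : Set G)) (hxM : x ∉ M) :
    ∃ N0 : Subgroup G, Group.IsNilpotent N0 ∧ ∀ g ∈ normalizer (C0 : Set G), PiElt π g → g ∈ N0 := by
  obtain ⟨W, hW⟩ : ∃ W, W = normalizer (C0 : Set G) := ⟨_, rfl⟩
  rw [← hW] at hx ⊢
  have hC0W : C0 ≤ W := hW ▸ le_normalizer
  haveI : (C0.subgroupOf W).Normal := normal_subgroupOf_of_le_normalizer (le_of_eq hW)
  have hidx' : (M.subgroupOf W).index = p := by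
    refine ((Nat.dvd_prime hp).1 (hidx ▸ relIndex_dvd_index_of_normal M W)).resolve_left fun e => ?_
    exact hxM (Subgroup.relIndex_eq_one.1 e hx)
  have hQ1 : Cfsg.piCore π W ≠ ⊥ := by
    intro e
    have hle := piCore_maximal (G := W) (π := π) (inferInstance : (C0.subgroupOf W).Normal)
      fun r hr hd => hC0 r hr (by rwa [Nat.card_congr (subgroupOfEquivOfLe hC0W).toEquiv] at hd)
    rw [e, le_bot_iff] at hle
    have := subgroupOf_eq_bot.1 hle
    rw [disjoint_iff, inf_eq_left.2 hC0W] at this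
    exact hC1 this
  obtain ⟨hnil, hall⟩ := local_step hno ((Subgroup.card_le_card_group W).trans hlt) (noMix_subgroup h W) h2
    (L := M.subgroupOf W) hp hpπ hidx' hQ1
  exact ⟨(Cfsg.piCore π W).map W.subtype, isNilpotent_map hnil _, fun g hg hgπ =>
    ⟨⟨g, hg⟩, hall ⟨g, hg⟩ (piElt_coe.1 hgπ), rfl⟩⟩

theorem conj_inv_pow {g u : G} (h : g * u * g⁻¹ = u⁻¹) (j : ℕ) :
    g ^ (2 * j) * u * (g ^ (2 * j))⁻¹ = u ∧ g ^ (2 * j + 1) * u * (g ^ (2 * j + 1))⁻¹ = u⁻¹ := by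
  induction j with
  | zero => simp [h]
  | succ j ih =>
    have h1 : g * u⁻¹ * g⁻¹ = u := by rw [show g * u⁻¹ * g⁻¹ = (g * u * g⁻¹)⁻¹ by group, h, inv_inv]
    have e : g ^ (2 * (j + 1)) * u * (g ^ (2 * (j + 1)))⁻¹ = u := by
      rw [show 2 * (j + 1) = 2 * j + 1 + 1 by ring, pow_succ' g (2 * j + 1), mul_inv_rev,
        show g * g ^ (2 * j + 1) * u * ((g ^ (2 * j + 1))⁻¹ * g⁻¹) =
          g * (g ^ (2 * j + 1) * u * (g ^ (2 * j + 1))⁻¹) * g⁻¹ by group, ih.2, h1]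
    refine ⟨e, ?_⟩
    rw [pow_succ' g (2 * (j + 1)), mul_inv_rev,
      show g * g ^ (2 * (j + 1)) * u * ((g ^ (2 * (j + 1)))⁻¹ * g⁻¹) =
        g * (g ^ (2 * (j + 1)) * u * (g ^ (2 * (j + 1)))⁻¹) * g⁻¹ by group, e, h]

/-- The 2-part of an element inverting `u` inverts `u`. -/
theorem exists_two_element {g u : G} (h : g * u * g⁻¹ = u⁻¹) :
    ∃ t ∈ zpowers g, (∃ k : ℕ, t ^ 2 ^ k = 1) ∧ t * u * t⁻¹ = u⁻¹ := by
  obtain ⟨k, m, hm, hkm⟩ := Nat.exists_eq_two_pow_mul_odd (orderOf_pos g).ne'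
  obtain ⟨j, rfl⟩ := hm
  exact ⟨g ^ (2 * j + 1), npow_mem_zpowers g _,
    ⟨k, by rw [← pow_mul, mul_comm, ← hkm, pow_orderOf_eq_one]⟩, (conj_inv_pow h j).2⟩

/-- No nontrivial element of odd prime power order in `π` of the normalizer is inverted there. -/
theorem no_inv_local {W N0 : Subgroup G} (hnil : Group.IsNilpotent N0)
    (hall : ∀ g ∈ W, PiElt π g → g ∈ N0) (h2 : 2 ∈ π) {q : ℕ} [Fact q.Prime] (hq2 : q ≠ 2) (hqπ : q ∈ π)
    {u g : G} {i : ℕ} (hu : u ∈ W) (hg : g ∈ W) (huq : u ^ q ^ i = 1) (hinv : g * u * g⁻¹ = u⁻¹) :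
    u = 1 := by
  haveI := Fact.mk Nat.prime_two
  have hq : q.Prime := Fact.out
  have hu0 : u ∈ N0 := hall u hu (piElt_of_prime hq (orderOf_dvd_of_pow_eq_one huq) hqπ)
  obtain ⟨t, ht, ⟨k, htk⟩, hti⟩ := exists_two_element hinv
  have ht0 : t ∈ N0 := hall t (zpowers_le.2 hg ht) (piElt_of_prime Nat.prime_two (orderOf_dvd_of_pow_eq_one htk) h2)
  have hc : t * u = u * t := congrArg Subtype.val
    (commute_of_nilpotent_coprime hnil (p := 2) (q := q) (Ne.symm hq2) (x := (⟨t, ht0⟩ : N0))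
      (y := ⟨u, hu0⟩) (Subtype.ext htk) (Subtype.ext huq))
  rw [hc, mul_inv_cancel_right] at hti
  refine eq_one_of_odd_of_sq ?_ (by nth_rewrite 1 [hti]; exact inv_mul_cancel u)
  exact Odd.of_dvd_nat (Odd.pow (hq.odd_of_ne_two hq2)) (orderOf_dvd_of_pow_eq_one huq)

/-- The normalizer of `C0` normalizes the Sylow subgroup that normalizes `C0`. -/
theorem le_normalizer_sylow {W N0 : Subgroup G} (hnil : Group.IsNilpotent N0)
    (hall : ∀ g ∈ W, PiElt π g → g ∈ N0) {q : ℕ} [Fact q.Prime] (hqπ : q ∈ π) (Q : Sylow q G)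
    (hQW : (Q : Subgroup G) ≤ W) : W ≤ normalizer ((Q : Subgroup G) : Set G) := by
  have key : ∀ R : Sylow q G, (R : Subgroup G) ≤ W → (R : Subgroup G) ≤ N0 := fun R hR x hx =>
    hall x (hR hx) (piElt_of_mem (piSub_of_pGroup (Fact.out : q.Prime) R.isPGroup' hqπ) hx)
  intro g hg
  rw [mem_normalizer_iff_smul]
  have hgQ : ((g • Q : Sylow q G) : Subgroup G) ≤ W := by
    rw [Sylow.coe_subgroup_smul]
    intro x hx
    rw [mem_smul_conj] at hx
    have := mul_mem (mul_mem hg (hQW hx)) (inv_mem hg)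
    simpa [mul_assoc] using this
  haveI : Subsingleton (Sylow q N0) := by
    obtain ⟨T⟩ : Nonempty (Sylow q N0) := inferInstance
    haveI := (Sylow.unique_of_normal T (isNilpotent_iff_sylow_normal.mp hnil q inferInstance T))
    infer_instance
  have e : (g • Q).subtype (key _ hgQ) = Q.subtype (key _ hQW) := Subsingleton.elim _ _
  exact congrArg (fun R : Sylow q G => (R : Subgroup G)) (Sylow.subtype_injective e)

section Weak

variable {q : ℕ} [Fact q.Prime] (Q : Sylow q G)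

/-- The centre of a Sylow subgroup is weakly closed. -/
theorem center_weakly_closed (hq2 : q ≠ 2) {Z : Subgroup G}
    (hZ : Z = (Q : Subgroup G) ⊓ centralizer ((Q : Subgroup G) : Set G))
    (hJ : ∀ g : G, g ∈ normalizer ((Cfsg.thompsonSubgroupAOf (Q : Subgroup G) : Subgroup G) : Set G) →
      g ∈ normalizer (Z : Set G))
    (hinv : ∀ g ∈ normalizer (Z : Set G), ∀ a ∈ Z, g * a * g⁻¹ = a⁻¹ → a = 1)
    {g : G} (hg : ∀ z ∈ Z, g * z * g⁻¹ ∈ (Q : Subgroup G)) : g ∈ normalizer (Z : Set G) := by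
  have hJT : ∀ NJ : Cfsg.FusionSystem (normalizerIn (Q : Subgroup G) (Cfsg.thompsonSubgroupAOf (Q : Subgroup G))),
      (Cfsg.groupFusionSystem (Q : Subgroup G)).IsNormalizerSystem (Cfsg.thompsonSubgroupAOf (Q : Subgroup G)) NJ →
      ∀ NT : Cfsg.FusionSystem (normalizerIn (Q : Subgroup G) Z),
        (Cfsg.groupFusionSystem (Q : Subgroup G)).IsNormalizerSystem Z NT → NJ.IsSubsystemOf NT := by
    intro NJ hNJ NT hNT P φ hφ
    rw [hNJ P] at hφ
    obtain ⟨hφF, hP, hφN, ψ, hψ, hψe, hψJ⟩ := hφ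
    obtain ⟨-, -, k, hk⟩ := hψ
    have hkJ : k ∈ normalizer ((Cfsg.thompsonSubgroupAOf (Q : Subgroup G) : Subgroup G) : Set G) := by
      refine S5278.norm_of_le_in fun z hz => ?_
      have h1 : ψ ⟨z, Subgroup.mem_sup_right hz⟩ ∈ Cfsg.thompsonSubgroupAOf (Q : Subgroup G) :=
        hψJ.le ⟨⟨z, Subgroup.mem_sup_right hz⟩, hz, rfl⟩
      rwa [hk] at h1
    have hZn := hJ k hkJ
    have hnorm : normalizerIn (Q : Subgroup G) Z = (Q : Subgroup G) := by
      refine le_antisymm inf_le_left fun s hs => ⟨hs, centralizer_le_normalizer _ ?_⟩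
      exact mem_centralizer_iff.2 fun z hz => ((mem_centralizer_iff.1 ((hZ ▸ hz : z ∈ _) : z ∈
        (Q : Subgroup G) ⊓ centralizer ((Q : Subgroup G) : Set G)).2) s hs).symm
    have hPQ : P ≤ (Q : Subgroup G) := hP.trans inf_le_left
    have hZQ : Z ≤ (Q : Subgroup G) := hZ ▸ inf_le_left
    rw [hNT P]
    refine ⟨hφF, hPQ.trans hnorm.ge, fun x => hnorm.ge (hφN x).1, Cfsg.conjHom (P ⊔ Z) k, ⟨sup_le hPQ hZQ,
      fun x => ?_, k, fun x => rfl⟩, fun x => ?_, ?_⟩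
    · show k * (x : G) * k⁻¹ ∈ (Q : Subgroup G)
      have hle : P ⊔ Z ≤ (Q : Subgroup G).comap (MulAut.conj k).toMonoidHom := sup_le (fun y hy => by
          show k * y * k⁻¹ ∈ (Q : Subgroup G)
          have := (hφN ⟨y, hy⟩).1
          rwa [← hψe ⟨y, hy⟩, hk] at this)
        (fun y hy => hZQ ((mem_normalizer_iff.1 hZn y).1 hy))
      exact hle x.2
    · show k * (x : G) * k⁻¹ = _
      rw [← hψe x, hk]
      rfl
    · ext z
      constructor
      · rintro ⟨w, hw, rfl⟩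
        exact (mem_normalizer_iff.1 hZn _).1 hw
      · intro hz
        have hz' : k⁻¹ * z * k ∈ Z := (mem_normalizer_iff''.1 hZn z).1 hz
        exact ⟨⟨k⁻¹ * z * k, Subgroup.mem_sup_right hz'⟩, hz', show k * (k⁻¹ * z * k) * k⁻¹ = z by group⟩
  have hZQ : Z ≤ (Q : Subgroup G) := hZ ▸ inf_le_left
  rcases S5278.result q Q.isPGroup' _ (Fus.isSaturated_group Q) hq2 Z hZ.le hJT with hw | hX
  · refine S5278.norm_of_le_in fun z hz => ?_
    have hr := hw.2 (Cfsg.conjHom Z g) ⟨hZQ, fun x => hg x x.2, g, fun x => rfl⟩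
    rw [← hr]
    exact ⟨⟨z, hz⟩, rfl⟩
  · exfalso
    obtain ⟨X, hX, hX1, -, -, htr⟩ := hX
    obtain ⟨ψ, hψ, hψ1⟩ := X.bot_or_exists_ne_one.resolve_left hX1
    obtain ⟨z, hz⟩ : ∃ z, ψ z ≠ z := by
      by_contra hc
      push Not at hc
      exact hψ1 (MulEquiv.ext hc)
    have ha1 : ψ z * z⁻¹ ≠ 1 := fun e => hz (mul_inv_eq_one.1 e)
    have hamem : ψ z * z⁻¹ ∈ Subgroup.closure {y : ↥Z | ∃ ψ ∈ X, ∃ t : ↥Z, y = ψ t * t⁻¹} :=
      Subgroup.subset_closure ⟨ψ, hψ, z, rfl⟩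
    obtain ⟨σ, hσ, hσe⟩ := htr _ _ hamem (inv_mem hamem) ha1 (inv_ne_one.2 ha1)
    have hσA := hX hσ
    rw [Fus.groupFusionSystem_eq, Fus.autGroup_ofSubgroup hZQ, Fus.mem_autInducedBy] at hσA
    obtain ⟨k, -, hk⟩ := hσA
    refine ha1 (Subtype.ext (hinv k (Fus.mem_normalizer_of_conj_aut hk) _ (ψ z * z⁻¹).2 ?_))
    rw [← hk, hσe]
    rfl

/-- With a weakly closed centre, fusion of central elements is controlled by its normalizer. -/
theorem no_real_of_weakly_closed {Z : Subgroup G}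
    (hZ : Z = (Q : Subgroup G) ⊓ centralizer ((Q : Subgroup G) : Set G))
    (hwc : ∀ g : G, (∀ z ∈ Z, g * z * g⁻¹ ∈ (Q : Subgroup G)) → g ∈ normalizer (Z : Set G))
    (hinv : ∀ g ∈ normalizer (Z : Set G), ∀ u ∈ (Q : Subgroup G), g * u * g⁻¹ = u⁻¹ → u = 1)
    {u g : G} (hu : u ∈ (Q : Subgroup G)) (hg : g * u * g⁻¹ = u⁻¹) : u = 1 := by
  obtain ⟨C, hC⟩ : ∃ C, C = centralizer ({u} : Set G) := ⟨_, rfl⟩
  have hZQ : Z ≤ (Q : Subgroup G) := hZ ▸ inf_le_left
  have hZu : ∀ z ∈ Z, Commute u z := fun z hz =>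
    mem_centralizer_iff.1 ((hZ ▸ hz : z ∈ (Q : Subgroup G) ⊓ centralizer ((Q : Subgroup G) : Set G))).2 u hu
  have hgi : g⁻¹ * u * g = u⁻¹ := by
    have e := congrArg (fun v => g⁻¹ * v⁻¹ * g) hg
    simp only [inv_inv] at e
    rw [← e]; group
  have hZC : Z ≤ C := fun z hz => hC ▸ mem_centralizer_singleton_iff.2 (hZu z hz).eq.symm
  obtain ⟨Z', hZ'⟩ : ∃ Z', Z' = MulAut.conj g • Z := ⟨_, rfl⟩
  have hZ'C : Z' ≤ C := fun x hx => by
    rw [hZ', mem_smul_conj] at hx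
    refine hC ▸ mem_centralizer_singleton_iff.2 ?_
    have h1 : u * (g⁻¹ * x * g) = g⁻¹ * x * g * u := (hZu _ hx).eq
    have h2 : g * u * g⁻¹ * x = x * (g * u * g⁻¹) := by
      calc g * u * g⁻¹ * x = g * (u * (g⁻¹ * x * g)) * g⁻¹ := by group
        _ = _ := by rw [h1]; group
    rw [hg] at h2
    exact (Commute.inv_left_iff.1 h2).eq.symm
  have hZp : IsPGroup q Z := Q.isPGroup'.to_le hZQ
  obtain ⟨T1, hT1, hZT1⟩ := HomDPi.exists_isSylowIn_ge hZC hZp
  obtain ⟨T2, hT2, hZT2⟩ := HomDPi.exists_isSylowIn_ge (q := q) hZ'C (by rw [hZ']; exact hZp.map _)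
  obtain ⟨c, hc, hcT⟩ := hT2.conj hT1
  obtain ⟨T, hT⟩ := hT1.2.1.exists_le_sylow
  obtain ⟨a, ha⟩ := MulAction.exists_smul_eq G T Q
  have hmove : ∀ x ∈ T1, a * x * a⁻¹ ∈ (Q : Subgroup G) := fun x hx => by
    rw [← ha, Sylow.coe_subgroup_smul, mem_smul_conj]
    convert hT hx using 1
    group
  have h1 : a ∈ normalizer (Z : Set G) := hwc a fun z hz => hmove z (hZT1 hz)
  have h2 : a * (c * g) ∈ normalizer (Z : Set G) := by
    refine hwc _ fun z hz => ?_
    have hz' : g * z * g⁻¹ ∈ T2 := hZT2 (by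
      rw [hZ', mem_smul_conj]
      convert hz using 1
      group)
    have h3 : c * (g * z * g⁻¹) * c⁻¹ ∈ T1 := by
      rw [← hcT, mem_smul_conj]
      convert hz' using 1
      group
    convert hmove _ h3 using 1
    group
  have h3 : c * g ∈ normalizer (Z : Set G) := by
    have := mul_mem (inv_mem h1) h2
    rwa [inv_mul_cancel_left] at this
  refine hinv _ h3 u hu ?_
  have hcu : Commute c u := mem_centralizer_singleton_iff.1 (hC ▸ hc)
  calc c * g * u * (c * g)⁻¹ = c * (g * u * g⁻¹) * c⁻¹ := by group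
    _ = u⁻¹ := by rw [hg, hcu.inv_right.eq, mul_inv_cancel_right]

end Weak

/-- A Frattini element outside `M`. -/
theorem exists_normalizer_notMem {M : Subgroup G} [hMn : M.Normal] (hM : M ≠ ⊤) {q : ℕ} [Fact q.Prime]
    (Q : Sylow q G) (hQM : (Q : Subgroup G) ≤ M) :
    ∃ x ∈ normalizer ((Q : Subgroup G) : Set G), x ∉ M := by
  obtain ⟨g, -, hg⟩ := SetLike.exists_of_lt (lt_top_iff_ne_top.2 hM)
  have hS : IsSylowIn q (Q : Subgroup G) M := ⟨hQM, Q.isPGroup', fun hd =>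
    Q.not_dvd_index (hd.trans ⟨_, (Subgroup.relIndex_mul_index hQM).symm⟩)⟩
  have hgM : MulAut.conj g • M = M := by
    rw [← mem_normalizer_iff_smul, Subgroup.normalizer_eq_top]; exact mem_top g
  obtain ⟨m, hm, hmQ⟩ := (hS.smul hgM).conj hS
  refine ⟨m * g, mem_normalizer_iff_smul.2 (by rw [map_mul, mul_smul, hmQ]), fun hmg => hg ?_⟩
  have := mul_mem (inv_mem hm) hmg
  rwa [inv_mul_cancel_left] at this

/-- Odd primes of `π` have no real elements. -/
theorem no_real_pi {n : ℕ} (hno : NoOuter.{u} π n) (hlt : Nat.card G ≤ n) (h : NoMix π G) (h2 : 2 ∈ π)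
    {M : Subgroup G} [M.Normal] {p : ℕ} (hp : p.Prime) (hpπ : p ∉ π) (hidx : M.index = p)
    {q : ℕ} (hq : q.Prime) (hq2 : q ≠ 2) (hqπ : q ∈ π) {u g : G} (hu : orderOf u = q)
    (hg : g * u * g⁻¹ = u⁻¹) : False := by
  haveI := Fact.mk hq
  have hu1 : u ≠ 1 := fun e => hq.one_lt.ne (by rw [← hu, e, orderOf_one])
  obtain ⟨Q, hQu⟩ := (IsPGroup.of_card (p := q) (n := 1) (show Nat.card (zpowers u) = q ^ 1 by
    rw [Nat.card_zpowers, hu, pow_one])).exists_le_sylow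
  have huQ : u ∈ (Q : Subgroup G) := hQu (mem_zpowers u)
  have hQπ : PiSub π (Q : Subgroup G) := piSub_of_pGroup hq Q.isPGroup' hqπ
  obtain ⟨x, hx, hxM⟩ := exists_normalizer_notMem (M := M) (fun e => hp.one_lt.ne (by
    rw [← hidx, e, Subgroup.index_top])) Q (fun y hy => mem_of_piElt hp hpπ hidx (piElt_of_mem hQπ hy))
  have hQ1 : (Q : Subgroup G) ≠ ⊥ := fun e => hu1 (mem_bot.1 (e ▸ huQ))
  obtain ⟨Z, hZ⟩ : ∃ Z, Z = (Q : Subgroup G) ⊓ centralizer ((Q : Subgroup G) : Set G) := ⟨_, rfl⟩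
  obtain ⟨J, hJ⟩ : ∃ J, J = Cfsg.thompsonSubgroupAOf (Q : Subgroup G) := ⟨_, rfl⟩
  have hNQJ : normalizer ((Q : Subgroup G) : Set G) ≤ normalizer (J : Set G) := fun k hk => by
    rw [mem_normalizer_iff_smul, hJ]
    exact (S5278.thompsonA_map (f := (MulAut.conj k).toMonoidHom) (MulAut.conj k).injective _).symm.trans
      (congrArg Cfsg.thompsonSubgroupAOf (mem_normalizer_iff_smul.1 hk))
  have hNQZ : normalizer ((Q : Subgroup G) : Set G) ≤ normalizer (Z : Set G) := fun k hk => by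
    refine S5278.norm_of_le_in fun z hz => ?_
    rw [hZ] at hz ⊢
    refine ⟨(mem_normalizer_iff.1 hk z).1 hz.1, mem_centralizer_iff.2 fun y hy => ?_⟩
    have h1 := mem_centralizer_iff.1 hz.2 (k⁻¹ * y * k) ((mem_normalizer_iff''.1 hk y).1 hy)
    calc y * (k * z * k⁻¹) = k * (k⁻¹ * y * k * z) * k⁻¹ := by group
      _ = _ := by rw [h1]; group
  have hZ1 : Z ≠ ⊥ := by
    haveI : Nontrivial (Q : Subgroup G) := (Subgroup.nontrivial_iff_ne_bot _).2 hQ1
    haveI := Q.isPGroup'.center_nontrivial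
    obtain ⟨c, hc1⟩ := exists_ne (1 : Subgroup.center (Q : Subgroup G))
    intro e
    have hcZ : ((c : (Q : Subgroup G)) : G) ∈ Z := hZ ▸ ⟨(c : (Q : Subgroup G)).2, mem_centralizer_iff.2
      fun y hy => congrArg Subtype.val (Subgroup.mem_center_iff.1 c.2 ⟨y, hy⟩)⟩
    rw [e, mem_bot] at hcZ
    exact hc1 (Subtype.ext (Subtype.ext hcZ))
  have hJQ : J ≤ (Q : Subgroup G) := hJ ▸ Fus.thompsonA_le _
  have hJ1 : J ≠ ⊥ := fun e => hZ1 (eq_bot_iff.2 fun z hz => by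
    have hz' : z ∈ centralizerIn (Q : Subgroup G) (Cfsg.thompsonSubgroupAOf (Q : Subgroup G)) := by
      have hz2 : z ∈ (Q : Subgroup G) ⊓ centralizer ((Q : Subgroup G) : Set G) := hZ ▸ hz
      exact ⟨hz2.1, Subgroup.centralizer_le (hJ ▸ hJQ : _ ≤ (Q : Subgroup G)) hz2.2⟩
    exact e ▸ hJ ▸ Fus.centralizer_thompsonA_le hz')
  obtain ⟨NZ, hNZn, hNZ⟩ := loc hno hlt h h2 hp hpπ hidx (C0 := Z)
    (fun r hr hd => hQπ r hr (hd.trans (Subgroup.card_dvd_of_le (hZ ▸ inf_le_left)))) hZ1 (hNQZ hx) hxM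
  obtain ⟨NJ, hNJn, hNJ⟩ := loc hno hlt h h2 hp hpπ hidx (C0 := J)
    (fun r hr hd => hQπ r hr (hd.trans (Subgroup.card_dvd_of_le hJQ))) hJ1 (hNQJ hx) hxM
  have hQW : ∀ {C0 : Subgroup G}, normalizer ((Q : Subgroup G) : Set G) ≤ normalizer (C0 : Set G) →
      (Q : Subgroup G) ≤ normalizer (C0 : Set G) := fun hC => le_normalizer.trans hC
  have hJZ := (le_normalizer_sylow hNJn hNJ hqπ Q (hQW hNQJ)).trans hNQZ
  have hinv : ∀ k ∈ normalizer (Z : Set G), ∀ a ∈ (Q : Subgroup G), k * a * k⁻¹ = a⁻¹ → a = 1 := by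
    intro k hk a ha e
    obtain ⟨i, hi⟩ := Q.isPGroup' ⟨a, ha⟩
    exact no_inv_local hNZn hNZ h2 hq2 hqπ (hQW hNQZ ha) hk (congrArg Subtype.val hi) e
  refine hu1 (no_real_of_weakly_closed Q hZ (fun k hk => ?_) hinv huQ hg)
  exact center_weakly_closed Q hq2 hZ (fun k hk => hJZ (hJ ▸ hk))
    (fun k hk a ha => hinv k hk a ((hZ ▸ ha : a ∈ (Q : Subgroup G) ⊓ _).1)) hk

/-- A real element outside `π` is impossible. -/
theorem no_real_compl (h : NoMix π G) (h2 : 2 ∈ π) {M : Subgroup G} [M.Normal] {p : ℕ} (hp : p.Prime)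
    (hpπ : p ∉ π) (hidx : M.index = p) {r : ℕ} (hr : r.Prime) (hrπ : r ∉ π) {u g : G}
    (hu : orderOf u = r) (hg : g * u * g⁻¹ = u⁻¹) : False := by
  haveI := Fact.mk hr
  obtain ⟨W, hW⟩ : ∃ W, W = centralizer ({u} : Set G) := ⟨_, rfl⟩
  have hWπ : PiSub πᶜ W := hW ▸ piSub_centralizer_compl h hr hrπ (dvd_of_eq hu.symm)
  have huW : u ∈ W := hW ▸ mem_centralizer_singleton_iff.2 rfl
  have hu1 : u ≠ 1 := fun e => hr.one_lt.ne (by rw [← hu, e, orderOf_one])
  obtain ⟨t, -, ⟨k, htk⟩, hti⟩ := exists_two_element hg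
  have htW : ∀ w ∈ W, t * w * t⁻¹ ∈ W := by
    subst hW
    intro w hw
    refine mem_centralizer_singleton_iff.2 ?_
    have hc : Commute w u⁻¹ := (show Commute w u from mem_centralizer_singleton_iff.1 hw).inv_right
    have hti' : t * u⁻¹ * t⁻¹ = u := by rw [show t * u⁻¹ * t⁻¹ = (t * u * t⁻¹)⁻¹ by group, hti, inv_inv]
    calc t * w * t⁻¹ * u = t * w * t⁻¹ * (t * u⁻¹ * t⁻¹) := by rw [hti']
      _ = t * (w * u⁻¹) * t⁻¹ := by group
      _ = t * (u⁻¹ * w) * t⁻¹ := by rw [hc.eq]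
      _ = (t * u⁻¹ * t⁻¹) * (t * w * t⁻¹) := by group
      _ = u * (t * w * t⁻¹) := by rw [hti']
  have htt : t * t ∈ W := hW ▸ sq_mem_centralizer hti
  have ht1 : t ≠ 1 := fun e => by
    rw [e] at hti
    exact hu1 (eq_one_of_sq h2 hWπ huW (by
      have e2 : u = u⁻¹ := by simpa using hti
      nth_rewrite 1 [e2]; exact inv_mul_cancel u))
  have htt1 : t * t = 1 := by
    by_contra hne
    obtain ⟨b, hb, hbd⟩ := exists_prime_dvd_of_ne_one hne
    have hb2 : b = 2 := (Nat.prime_dvd_prime_iff_eq hb Nat.prime_two).1 (hb.dvd_of_dvd_pow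
      (hbd.trans (orderOf_dvd_of_pow_eq_one
        (show (t * t) ^ 2 ^ k = 1 by rw [← sq, ← pow_mul, mul_comm, pow_mul, htk, one_pow]))))
    exact piElt_of_mem hWπ htt b hb hbd (hb2 ▸ h2)
  have ht : orderOf t = 2 := orderOf_eq_prime (by rw [sq, htt1]) ht1
  have hi : ∀ w ∈ W, t * w * t⁻¹ = w⁻¹ := fun w hw => inverts h h2 ht hWπ htW hw
  have hcc : ∀ w ∈ W, w ≠ 1 → centralizer ({w} : Set G) ≤ W := by
    intro w hw hw1
    obtain ⟨b, hb, hbd⟩ := exists_prime_dvd_of_ne_one hw1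
    have hbπ : b ∉ π := piElt_of_mem hWπ hw b hb hbd
    obtain ⟨W', hW'⟩ : ∃ W', W' = centralizer ({w} : Set G) := ⟨_, rfl⟩
    have hW'π : PiSub πᶜ W' := hW' ▸ piSub_centralizer_compl h hb hbπ hbd
    have htW' : ∀ v ∈ W', t * v * t⁻¹ ∈ W' := fun v hv => by
      refine hW' ▸ mem_centralizer_singleton_iff.2 ?_
      have hc : Commute v w⁻¹ :=
        (show Commute v w from mem_centralizer_singleton_iff.1 (hW' ▸ hv)).inv_right
      have hwi : t * w⁻¹ * t⁻¹ = w := by rw [hi _ (inv_mem hw), inv_inv]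
      calc t * v * t⁻¹ * w = t * v * t⁻¹ * (t * w⁻¹ * t⁻¹) := by rw [hwi]
        _ = t * (v * w⁻¹) * t⁻¹ := by group
        _ = t * (w⁻¹ * v) * t⁻¹ := by rw [hc.eq]
        _ = (t * w⁻¹ * t⁻¹) * (t * v * t⁻¹) := by group
        _ = w * (t * v * t⁻¹) := by rw [hwi]
    have huW' : u ∈ W' := hW' ▸ mem_centralizer_singleton_iff.2
      (mem_centralizer_singleton_iff.1 (hW ▸ hw)).symm
    intro v hv
    exact hW ▸ mem_centralizer_singleton_iff.2 (comm_of_inverts h h2 ht hW'π htW' (hW' ▸ hv) huW')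
  have htM : t ∈ M := mem_of_piElt hp hpπ hidx (piElt_of_prime Nat.prime_two (k := 1) (by rw [ht, pow_one]) h2)
  have hWM : W ≤ M := fun w hw => by
    obtain ⟨e, he, hee⟩ := exists_sqrt h2 hWπ hw
    have h1 : t * (e⁻¹ * t⁻¹ * e) ∈ M :=
      mul_mem htM (by simpa using ‹M.Normal›.conj_mem _ (inv_mem htM) e⁻¹)
    have h3 : t * (e⁻¹ * t⁻¹ * e) = w := by
      rw [show t * (e⁻¹ * t⁻¹ * e) = t * e⁻¹ * t⁻¹ * e by group, hi _ (inv_mem he), inv_inv, hee]
    exact h3 ▸ h1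
  -- the Sylow `r`-subgroup containing `u`
  obtain ⟨R, hRu⟩ := (IsPGroup.of_card (p := r) (n := 1) (show Nat.card (zpowers u) = r ^ 1 by
    rw [Nat.card_zpowers, hu, pow_one])).exists_le_sylow
  have huR : u ∈ (R : Subgroup G) := hRu (mem_zpowers u)
  have hRW : (R : Subgroup G) ≤ W := by
    haveI : Nontrivial (R : Subgroup G) := ⟨⟨⟨u, huR⟩, 1, fun e => hu1 (congrArg Subtype.val e)⟩⟩
    haveI := R.isPGroup'.center_nontrivial
    obtain ⟨c, hc1⟩ := exists_ne (1 : Subgroup.center (R : Subgroup G))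
    have hcc' : ∀ y ∈ (R : Subgroup G), y * ((c : (R : Subgroup G)) : G) = ((c : (R : Subgroup G)) : G) * y :=
      fun y hy => congrArg Subtype.val (Subgroup.mem_center_iff.1 c.2 ⟨y, hy⟩)
    have hcW : ((c : (R : Subgroup G)) : G) ∈ W := hW ▸ mem_centralizer_singleton_iff.2 (hcc' u huR).symm
    intro y hy
    exact hcc _ hcW (fun e => hc1 (Subtype.ext (Subtype.ext e))) (mem_centralizer_singleton_iff.2 (hcc' y hy))
  obtain ⟨x, hx, hxM⟩ := exists_normalizer_notMem (M := M) (fun e => hp.one_lt.ne (by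
    rw [← hidx, e, Subgroup.index_top])) R (hRW.trans hWM)
  have hxW : ∀ w ∈ W, x⁻¹ * w * x ∈ W := by
    intro w hw
    refine hW ▸ mem_centralizer_singleton_iff.2 ?_
    have hxu : x * u * x⁻¹ ∈ W := hRW ((mem_normalizer_iff.1 hx u).1 huR)
    have hcomm := comm_of_inverts h h2 ht hWπ htW hw hxu
    calc x⁻¹ * w * x * u = x⁻¹ * (w * (x * u * x⁻¹)) * x := by group
      _ = u * (x⁻¹ * w * x) := by rw [hcomm]; group
  -- `x t x⁻¹` inverts `W` as `t` does
  have hd : x * t * x⁻¹ * t⁻¹ ∈ W := by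
    refine hW ▸ mem_centralizer_singleton_iff.2 (mul_inv_eq_iff_eq_mul.1 ?_)
    calc x * t * x⁻¹ * t⁻¹ * u * (x * t * x⁻¹ * t⁻¹)⁻¹
        = x * (t * (x⁻¹ * (t⁻¹ * u * t) * x) * t⁻¹) * x⁻¹ := by group
      _ = u := by
        have e1 : t⁻¹ * u * t = u⁻¹ := by
          calc t⁻¹ * u * t = t⁻¹ * (t * u⁻¹ * t⁻¹) * t := by rw [hi _ (inv_mem huW), inv_inv]
            _ = u⁻¹ := by group
        rw [e1, hi _ (hxW _ (inv_mem huW))]
        group
  obtain ⟨e, he, hee⟩ := exists_sqrt h2 hWπ hd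
  have hxe : e⁻¹ * x ∉ M := fun hm => hxM (by
    have := mul_mem (hWM he) hm
    rwa [mul_inv_cancel_left] at this)
  have hcomm : Commute t (e⁻¹ * x) := by
    have e1 : x * t * x⁻¹ = e * e * t := by rw [hee]; group
    have e2 : e⁻¹ * (x * t * x⁻¹) * e = t := by
      rw [e1]
      calc e⁻¹ * (e * e * t) * e = e * (t * e * t⁻¹) * t := by group
        _ = t := by rw [hi e he]; group
    have e3 : e⁻¹ * x * t = t * (e⁻¹ * x) := by
      calc e⁻¹ * x * t = e⁻¹ * (x * t * x⁻¹) * e * (e⁻¹ * x) := by group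
        _ = _ := by rw [e2]
    exact e3.symm
  have hpd : p ∣ orderOf (e⁻¹ * x) := by
    have h1 : orderOf ((e⁻¹ * x : G) : G ⧸ M) = p := by
      refine ((Nat.dvd_prime hp).1 ?_).resolve_left fun h0 =>
        hxe ((QuotientGroup.eq_one_iff _).1 (orderOf_eq_one_iff.1 h0))
      rw [← hidx, Subgroup.index_eq_card]
      exact orderOf_dvd_natCard _
    exact h1 ▸ orderOf_map_dvd (QuotientGroup.mk' M) _
  exact false_of_commute h Nat.prime_two hp h2 hpπ (dvd_of_eq ht.symm) hpd hcomm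

/-- No almost simple group has socle of prime index outside `π`. -/
theorem noOuter (h2 : 2 ∈ π) : ∀ n, NoOuter.{u} π n := by
  intro n
  induction n with
  | zero => exact fun X _ _ h => absurd h (Nat.not_lt_zero _)
  | succ n ih =>
    intro X _ _ hlt h M hMn hMs hMna hMC p hp hpπ hidx
    haveI := hMn
    haveI := hMs
    haveI := Fact.mk Nat.prime_two
    have hns := not_solvable_of_simple hMna
    obtain ⟨S⟩ : Nonempty (Sylow 2 M) := inferInstance
    have hnot : ¬ ∀ x : M, x ≠ 1 → Odd (orderOf x) → ¬ IsConj x x⁻¹ := by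
      intro hall
      rcases IsSimpleGroup.eq_bot_or_eq_top_of_normal _ (two_sylow_normal_of_no_real hall S) with e | e
      · have hodd : ¬ 2 ∣ Nat.card M := by
          have := S.not_dvd_index
          rwa [e, Subgroup.index_bot] at this
        exact hns (Cfsg.Agent.S0205.result (Nat.odd_iff.2 (Nat.two_dvd_ne_zero.1 hodd)))
      · haveI := S.isPGroup'.isNilpotent
        haveI : Group.IsSolvable (S : Subgroup M) := inferInstance
        exact hns (Group.isSolvable_of_surjective (f := (S : Subgroup M).subtype)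
          fun x => ⟨⟨x, e.symm ▸ mem_top x⟩, rfl⟩)
    push Not at hnot
    obtain ⟨x, hx1, hxo, hxc⟩ := hnot
    obtain ⟨g, hg⟩ := isConj_iff.1 hxc
    obtain ⟨q, hq, hqd⟩ := exists_prime_dvd_of_ne_one hx1
    have hu := orderOf_pow_orderOf_div (orderOf_pos x).ne' hqd
    have hq2 : q ≠ 2 := fun e => Nat.not_even_iff_odd.2 hxo (even_iff_two_dvd.2 (e ▸ hqd))
    have hgu : (g : X) * ((x ^ (orderOf x / q) : M) : X) * (g : X)⁻¹ = ((x ^ (orderOf x / q) : M) : X)⁻¹ := by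
      rw [← Subgroup.coe_inv, ← Subgroup.coe_inv, ← Subgroup.coe_mul, ← Subgroup.coe_mul, ← conj_pow, hg,
        inv_pow]
    have hu' : orderOf ((x ^ (orderOf x / q) : M) : X) = q := by rw [orderOf_coe, hu]
    by_cases hqπ : q ∈ π
    · exact no_real_pi ih (Nat.lt_succ_iff.1 hlt) h h2 hp hpπ hidx hq hq2 hqπ hu' hgu
    · exact no_real_compl h h2 hp hpπ hidx hq hqπ hu' hgu

end Cfsg.Agent.Grp.GK
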