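import Mathlib
import Cfsg.Agent.Lib.Grp.PrimeGraphGK.Outer

/-!
The theorem of Gruenberg and Kegel on groups with disconnected prime graph.
-/

set_option autoImplicit false
set_option linter.unusedSectionVars false

universe u

namespace Cfsg.Agent.Grp.GK

open Subgroup Cfsg.Agent.Grp.Graph

variable {G : Type u} [Group G] [Finite G] {π : Set ℕ}

theorem gruenberg_kegel (h : NoMix π G) (h2 : 2 ∈ π) (h2G : 2 ∣ Nat.card G)
    (hb : ∃ b ∉ π, b.Prime ∧ b ∣ Nat.card G) :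
    (∃ C : Subgroup G, Cfsg.IsFrobeniusComplement C) ∨
    (∃ (H K : Subgroup G) (_ : H.Normal), K.Normal ∧ H < K ∧
      (∃ C : Subgroup ↥K, Cfsg.IsFrobeniusComplement C ∧ Cfsg.frobeniusKernel C = (H.subgroupOf K : Set ↥K)) ∧
      (∃ C : Subgroup (G ⧸ H), Cfsg.IsFrobeniusComplement C ∧
        Cfsg.frobeniusKernel C = (K.map (QuotientGroup.mk' H) : Set (G ⧸ H)))) ∨
    (∃ (N M : Subgroup G) (_ : N.Normal) (_ : M.Normal), N ≤ M ∧ PiSub π N ∧
      (∀ p : ℕ, p.Prime → p ∣ Nat.card (G ⧸ M) → p ∈ π) ∧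
      IsSimpleGroup (↥M ⧸ N.subgroupOf M) ∧ ¬ IsMulCommutative (↥M ⧸ N.subgroupOf M)) := by
  classical
  by_cases hD1 : Cfsg.piCore πᶜ G = ⊥
  swap
  · obtain ⟨C, hC, -⟩ := frobenius_of_core h h2 h2G hD1
    exact Or.inl ⟨C, hC⟩
  obtain ⟨L, hLd⟩ : ∃ L, L = Cfsg.piCore π G := ⟨_, rfl⟩
  haveI hLn : L.Normal := hLd ▸ inferInstance
  have hL : PiSub π L := hLd ▸ piSub_core
  obtain ⟨b, hbπ, hb', hbd⟩ := hb
  haveI := Fact.mk hb'
  obtain ⟨y, hy⟩ := exists_prime_orderOf_dvd_card' b hbd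
  have hyL : y ∉ L := fun hm => hbπ (piElt_of_mem hL hm b hb' (dvd_of_eq hy.symm))
  haveI : Nontrivial (G ⧸ L) := ⟨⟨y, 1, fun e => hyL ((QuotientGroup.eq_one_iff y).1 e)⟩⟩
  set φ := QuotientGroup.mk' L with hφ
  have hφs : Function.Surjective φ := QuotientGroup.mk'_surjective L
  have hY : NoMix π (G ⧸ L) := h.quot L
  by_cases hK1 : Cfsg.piCore πᶜ (G ⧸ L) = ⊥
  · -- the simple section
    refine Or.inr (Or.inr ?_)
    have hcore : Cfsg.piCore π (G ⧸ L) = ⊥ := by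
      have h0 := piCore_maximal (G := G) (inferInstance : ((Cfsg.piCore π (G ⧸ L)).comap φ).Normal)
        (piSub_comap hL piSub_core)
      rw [← hLd] at h0
      rw [← Subgroup.map_comap_eq_self_of_surjective hφs (Cfsg.piCore π (G ⧸ L)),
        Subgroup.map_eq_bot_iff, QuotientGroup.ker_mk']
      exact h0
    obtain ⟨S, hSn, hSs, hSna, hSC⟩ := exists_socle hY h2 hcore hK1
    haveI := hSn
    obtain ⟨M, hMd⟩ : ∃ M, M = S.comap φ := ⟨_, rfl⟩
    haveI hMn : M.Normal := hMd ▸ inferInstance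
    have hLM : L ≤ M := fun l hl => hMd ▸ (show φ l ∈ S by
      rw [show φ l = 1 from (QuotientGroup.eq_one_iff l).mpr hl]; exact one_mem S)
    obtain ⟨f, hf⟩ : ∃ f : ↥M →* ↥S, ∀ x : M, (f x : G ⧸ L) = φ x :=
      ⟨(φ.comp M.subtype).codRestrict S fun x => (hMd ▸ x.2 : (x : G) ∈ S.comap φ), fun _ => rfl⟩
    have hfs : Function.Surjective f := by
      rintro ⟨s, hs⟩
      obtain ⟨g, rfl⟩ := hφs s
      exact ⟨⟨g, hMd ▸ hs⟩, Subtype.ext (hf _)⟩
    have hfk : f.ker = L.subgroupOf M := by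
      ext x
      rw [MonoidHom.mem_ker, Subtype.ext_iff, hf, mem_subgroupOf, Subgroup.coe_one]
      exact QuotientGroup.eq_one_iff _
    obtain ⟨e⟩ : Nonempty ((↥M ⧸ L.subgroupOf M) ≃* ↥S) :=
      ⟨(QuotientGroup.quotientMulEquivOfEq hfk.symm).trans (QuotientGroup.quotientKerEquivOfSurjective f hfs)⟩
    haveI := hSs
    haveI : Nontrivial (↥M ⧸ L.subgroupOf M) := e.toEquiv.nontrivial
    refine ⟨L, M, hLn, hMn, hLM, hL, fun p hp hpd => ?_,
      IsSimpleGroup.isSimpleGroup_of_surjective e.symm.toMonoidHom e.symm.surjective,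
      fun hc => hSna ⟨⟨fun a c => e.symm.injective (by rw [map_mul, map_mul, hc.is_comm.comm])⟩⟩⟩
    rw [← Subgroup.index_eq_card, hMd, Subgroup.index_comap_of_surjective _ hφs] at hpd
    exact index_pi (noOuter h2 (Nat.card (G ⧸ L) + 1)) (Nat.lt_succ_self _) hY S hSs hSna hSC hp hpd
  have hL1 : L ≠ ⊥ := by
    intro e
    refine hK1 ?_
    have h0 := piCore_maximal (G := G) (π := πᶜ) (inferInstance : ((Cfsg.piCore πᶜ (G ⧸ L)).comap φ).Normal)
      (piSub_comap (fun r hr hd => by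
        rw [e, Subgroup.card_bot] at hd; exact absurd hd hr.not_dvd_one) piSub_core)
    rw [hD1, le_bot_iff] at h0
    rw [← Subgroup.map_comap_eq_self_of_surjective hφs (Cfsg.piCore πᶜ (G ⧸ L)), h0, Subgroup.map_bot]
  by_cases h2Y : 2 ∣ Nat.card (G ⧸ L)
  swap
  · -- then `G` is solvable
    haveI := nilpotent_of_fpf h hL hb' hbπ hy (by rw [Subgroup.normalizer_eq_top]; exact mem_top y)
    haveI : Group.IsSolvable (G ⧸ L) := Cfsg.Agent.S0205.result (Nat.odd_iff.2 (Nat.two_dvd_ne_zero.1 h2Y))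
    haveI : Group.IsSolvable G := (Group.isSolvable_iff_subgroup_quotient L).mpr ⟨inferInstance, inferInstance⟩
    rcases core_case h ⟨b, hbπ, hb', hbd⟩ (hLd ▸ hL1) with r | r
    · exact Or.inl r
    · exact Or.inr (Or.inl r)
  -- a 2-Frobenius group
  refine Or.inr (Or.inl ?_)
  obtain ⟨C', hC', hCker⟩ := frobenius_of_core hY h2 h2Y hK1
  obtain ⟨B, hBd⟩ : ∃ B, B = Cfsg.piCore πᶜ (G ⧸ L) := ⟨_, rfl⟩
  rw [← hBd] at hK1 hCker
  have hB : PiSub πᶜ B := hBd ▸ piSub_core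
  haveI : B.Normal := hBd ▸ inferInstance
  obtain ⟨K, hKd⟩ : ∃ K, K = B.comap φ := ⟨_, rfl⟩
  haveI hKn : K.Normal := hKd ▸ inferInstance
  have hLK : L ≤ K := fun l hl => hKd ▸ (show φ l ∈ B by
    rw [show φ l = 1 from (QuotientGroup.eq_one_iff l).mpr hl]; exact one_mem B)
  have hKmap : K.map φ = B := hKd ▸ Subgroup.map_comap_eq_self_of_surjective hφs B
  have hKB : (L.subgroupOf K).index = Nat.card B := by
    rw [← hKmap]
    show L.relIndex K = _
    rw [show L.relIndex K = φ.ker.relIndex K by rw [QuotientGroup.ker_mk'], Subgroup.relIndex_ker]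
  have hLK' : PiSub π (L.subgroupOf K) := fun r hr hd => hL r hr (by
    rwa [Nat.card_congr (Subgroup.subgroupOfEquivOfLe hLK).toEquiv] at hd)
  have hcop : (Nat.card (L.subgroupOf K)).Coprime (L.subgroupOf K).index := by
    rw [hKB]
    exact Nat.coprime_of_dvd fun r hr h1 h3 => hB r hr h3 (hLK' r hr h1)
  obtain ⟨C, hC⟩ := (L.subgroupOf K).exists_right_complement'_of_coprime hcop
  have hCcard : Nat.card C = Nat.card B := by rw [← hKB, hC.symm.index_eq_card]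
  have hlt : L < K := lt_of_le_of_ne hLK fun e => hK1 (by
    rw [← hKmap, ← e, Subgroup.map_eq_bot_iff, QuotientGroup.ker_mk'])
  obtain ⟨hCF, hCK⟩ := Graph.frobenius (noMix_subgroup h K) hLK' (fun r hr hd => hB r hr (hCcard ▸ hd))
    (fun e => hL1 (by
      have := (Subgroup.subgroupOf_eq_bot).mp e
      rwa [disjoint_iff, inf_eq_left.mpr hLK] at this))
    (fun e => hK1 (Subgroup.card_eq_one.mp (by rw [← hCcard, e, Subgroup.card_bot]))) hC
  exact ⟨L, K, hLn, hKn, hlt, ⟨C, hCF, hCK⟩, ⟨C', hC', by rw [hKmap]; exact hCker⟩⟩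

end Cfsg.Agent.Grp.GK
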